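import Groth.Agent.Lib.AmpleDesc.Sections
import Groth.Agent.Lib.Ample.Criterion
import Groth.Agent.Lib.QuasiFlat.QuasiAffine

/-!
# Descent of ampleness along faithfully flat morphisms of affine bases
-/

set_option autoImplicit false
set_option linter.all false
set_option backward.isDefEq.respectTransparency false
set_option maxHeartbeats 1000000

universe u

open CategoryTheory CategoryTheory.Limits AlgebraicGeometry Opposite TopologicalSpace

noncomputable section

namespace GrothLib.Ample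

variable {X Y : Scheme.{u}}

namespace Cocycle

/-- The loci of an ample cocycle are quasi-affine. -/
theorem isQuasiAffine_locus [CompactSpace X] (c : Cocycle X) (hc : c.IsAmp) {n : ℕ} (a : c.sect (n + 1) ⊤) :
    Scheme.IsQuasiAffine (c.locus a : Scheme.{u}) := by
  haveI := c.isAffineHom_locus_ι a
  haveI : CompactSpace (c.locus a : Scheme.{u}) := QuasiCompact.compactSpace_of_compactSpace (c.locus a).ι
  rw [isQuasiAffine_iff, isAmple_structureModule_iff]
  refine ⟨inferInstance, fun q => ?_⟩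
  obtain ⟨m, b, hqb, hbU, hb⟩ := c.exists_affine_locus_le hc (O := c.locus a) (p := (c.locus a).ι q) q.2
  obtain ⟨f, -, hf⟩ := c.exists_ratio (c.sectPow a (m + 1))
    (c.sectCast (Nat.mul_comm (m + 1) (n + 1)) (c.sectPow b (n + 1)))
  rw [c.locus_sectCast, c.locus_sectPow b n.succ_pos] at hf
  have e : c.locus (c.sectPow a (m + 1)) = c.locus a := c.locus_sectPow a m.succ_pos
  replace hf : X.basicOpen f = c.locus b := hf.trans (inf_eq_right.mpr (hbU.trans e.ge))
  refine ⟨(c.locus a).ι.appLE (c.locus (c.sectPow a (m + 1))) ⊤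
    (by rw [e]; exact fun x _ => x.2) f, ?_, ?_⟩
  · rw [Scheme.basicOpen_appLE, hf]
    exact ⟨trivial, hqb⟩
  · rw [Scheme.basicOpen_appLE, hf, top_inf_eq]
    exact hb.preimage (c.locus a).ι

variable {S S' : Scheme.{u}} [IsAffine S] [IsAffine S'] {f : X ⟶ S} {f' : Y ⟶ S'} {g : S' ⟶ S}
  [Flat g] [Surjective g] {j : Y ⟶ X}

/-- **Ampleness descends.** -/
theorem isAmp_of_comap [CompactSpace X] [QuasiSeparatedSpace X] [CompactSpace Y] (c : Cocycle X)
    (h : IsPullback j f' f g) (hc : (c.comap j).IsAmp) : c.IsAmp := by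
  intro x
  haveI : Surjective j := MorphismProperty.of_isPullback h.flip inferInstance
  obtain ⟨y, rfl⟩ := j.surjective x
  obtain ⟨n, b, hy, -⟩ := hc y
  obtain ⟨a, ha⟩ := c.exists_mem_locus_comap j h b hy
  haveI hqa' : Scheme.IsQuasiAffine (j ⁻¹ᵁ c.locus a : Scheme.{u}) := by
    rw [← c.locus_pullSect j a]
    exact (c.comap j).isQuasiAffine_locus hc _
  haveI hqa : Scheme.IsQuasiAffine (c.locus a : Scheme.{u}) :=
    GrothLib.QuasiFlat.qa_of_fpqc ((isPullback_morphismRestrict j (c.locus a)).paste_vert h)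
  obtain ⟨_, ⟨_, ⟨r, hr, rfl⟩, rfl⟩, hxr, -⟩ :=
    (Scheme.IsQuasiAffine.isBasis_basicOpen (c.locus a : Scheme.{u})).exists_subset_of_mem_open
      (Set.mem_univ (⟨j y, ha⟩ : c.locus a)) isOpen_univ
  obtain ⟨φ, hφ⟩ := (bijective_appLE_of_eq (c.locus a).ι
    (le_of_eq (Scheme.Opens.opensRange_ι _).symm : c.locus a ≤ (c.locus a).ι.opensRange)
    (by simp : (⊤ : (c.locus a : Scheme.{u}).Opens) = (c.locus a).ι ⁻¹ᵁ c.locus a)).2 r
  have hb : (c.locus a : Scheme.{u}).basicOpen r = (c.locus a).ι ⁻¹ᵁ X.basicOpen φ := by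
    rw [← hφ, Scheme.basicOpen_appLE, top_inf_eq]
  rw [hb] at hr hxr
  have hφa : IsAffineOpen (X.basicOpen φ) := by
    have := hr.image_of_isOpenImmersion (c.locus a).ι
    rwa [Scheme.Hom.image_preimage_eq_opensRange_inf, Scheme.Opens.opensRange_ι,
      inf_eq_right.mpr (X.basicOpen_le φ)] at this
  obtain ⟨m, b', hb'⟩ := c.exists_extend a φ
  have hdeg : (n + 1) * m + (n + 1) = (n + 1) * m + n + 1 := by omega
  refine ⟨(n + 1) * m + n, c.sectCast hdeg (c.mul b' a), ?_⟩
  have e : c.locus (c.sectCast hdeg (c.mul b' a)) = X.basicOpen φ := by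
    rw [c.locus_sectCast, c.locus_mul, inf_comm]
    exact (c.basicOpen_eq_of_smul (c.sectPow a m) b' (c.le_locus_sectPow a m) φ hb').symm
  rw [e]
  exact ⟨hxr, hφa⟩

end Cocycle

/-- **Descent of ampleness.** -/
theorem isAmple_of_isAmple_pullback {S S' : Scheme.{u}} [IsAffine S] [IsAffine S'] {f : X ⟶ S} {f' : Y ⟶ S'}
    {g : S' ⟶ S} [Flat g] [Surjective g] {j : Y ⟶ X} (h : IsPullback j f' f g) [QuasiCompact f]
    {L : X.Modules} (hL : PicF.IsInvertible L) (hA : CohB1.IsAmple ((Scheme.Modules.pullback j).obj L)) :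
    CohB1.IsAmple L := by
  obtain ⟨c, ⟨e⟩⟩ := exists_cocycle hL
  obtain ⟨d⟩ := c.nonempty_pullback_iso j e
  haveI : CompactSpace X := QuasiCompact.compactSpace_of_compactSpace f
  obtain ⟨hY, hc⟩ := ((c.comap j).isAmple_iff d).mp hA
  haveI := hY
  haveI := quasiSeparatedSpace_of_isAmple hA
  haveI : QuasiSeparated f' := inferInstance
  haveI : QuasiSeparated f := MorphismProperty.of_isPullback_of_descendsAlong (P := @QuasiSeparated)
    (Q := GrothLib.EtSite.fpqcCov) h.flip ⟨⟨inferInstance, inferInstance⟩, inferInstance⟩ inferInstance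
  haveI : QuasiSeparatedSpace X := quasiSeparatedSpace_of_quasiSeparated f
  exact (c.isAmple_iff e).mpr ⟨inferInstance, c.isAmp_of_comap h hc⟩

end GrothLib.Ample
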