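import Groth.Agent.Lib.AmpleDesc.Main
import Groth.Agent.Lib.Ample.RelAmple

/-!
# Descent of relative ampleness
-/

set_option autoImplicit false
set_option linter.all false
set_option backward.isDefEq.respectTransparency false
set_option maxHeartbeats 1000000

universe u

open CategoryTheory CategoryTheory.Limits AlgebraicGeometry Opposite TopologicalSpace

noncomputable section

namespace GrothLib.Ample

variable {X X' S S' : Scheme.{u}} {f : X ⟶ S} {f' : X' ⟶ S'} {g : S' ⟶ S} {p : X' ⟶ X}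

theorem isAmple_of_isRelAmple_top [IsAffine S] {L : X.Modules} (h : RelAmple.IsRelAmple f L) :
    CohB1.IsAmple L := by
  have h1 := (isAmple_restrict_iff _ L).mp (h.2 ⟨⊤, isAffineOpen_top S⟩)
  haveI : CompactSpace X := by
    haveI := h.1
    exact QuasiCompact.compactSpace_of_compactSpace f
  exact (isAmple_iff_of_iso ((Scheme.Modules.pullbackId X).app L)).mp
    (isAmple_pullback_of_range_le (𝟙 X) _ (by simp) h1)

/-- **Relative ampleness descends along quasi-compact flat surjections.** -/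
theorem isRelAmple_of_isPullback (h : IsPullback p f' f g) [QuasiCompact g] [Flat g] [Surjective g]
    {L : X.Modules} (hL : PicF.IsInvertible L)
    (hA : RelAmple.IsRelAmple f' ((Scheme.Modules.pullback p).obj L)) : RelAmple.IsRelAmple f L := by
  haveI := hA.1
  haveI : QuasiCompact f := MorphismProperty.of_isPullback_of_descendsAlong (P := @QuasiCompact)
    (Q := GrothLib.EtSite.fpqcCov) h.flip ⟨⟨inferInstance, inferInstance⟩, inferInstance⟩ inferInstance
  refine ⟨inferInstance, fun V => ?_⟩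
  obtain ⟨s, hs, hcov⟩ := (isCompact_and_isOpen_iff_finite_and_eq_biUnion_affineOpens
    (U := ((g ⁻¹ᵁ V.1 : S'.Opens) : Set S'))).mp ⟨g.isCompact_preimage V.2.isCompact, (g ⁻¹ᵁ V.1).2⟩
  haveI : Finite s := hs.to_subtype
  haveI : ∀ U : s, IsAffine ((U.1.1 : S'.Opens) : Scheme.{u}) := fun U => U.1.2
  let W : Scheme.{u} := ∐ fun U : s => ((U.1.1 : S'.Opens) : Scheme.{u})
  let ρ : W ⟶ S' := Sigma.desc fun U : s => U.1.1.ι
  have hρV : ∀ w, g (ρ w) ∈ V.1 := by
    intro w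
    obtain ⟨⟨U, z⟩, rfl⟩ := (sigmaMk fun U : s => ((U.1.1 : S'.Opens) : Scheme.{u})).surjective w
    rw [sigmaMk_mk]
    rw [← Scheme.Hom.comp_apply, ← Scheme.Hom.comp_apply]
    show (Sigma.ι _ U ≫ ρ ≫ g) z ∈ V.1
    rw [← Category.assoc, Sigma.ι_desc]
    show U.1.1.ι z ∈ ((g ⁻¹ᵁ V.1 : S'.Opens) : Set S')
    rw [hcov]
    exact Set.mem_biUnion U.2 z.2
  let w : W ⟶ V.1 := IsOpenImmersion.lift V.1.ι (ρ ≫ g) (by
    rw [V.1.range_ι]
    rintro _ ⟨z, rfl⟩
    exact hρV z)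
  have hw : w ≫ V.1.ι = ρ ≫ g := IsOpenImmersion.lift_fac _ _ _
  haveI : Flat w := by
    haveI : Flat ρ := IsZariskiLocalAtSource.sigmaDesc fun U => inferInstance
    haveI : Flat (w ≫ V.1.ι) := hw ▸ inferInstance
    exact MorphismProperty.of_postcomp (W := @Flat) (W' := @IsOpenImmersion) w V.1.ι inferInstance inferInstance
  haveI : Surjective w := by
    constructor
    intro v
    obtain ⟨y, hy⟩ := g.surjective v.1
    have hy' : y ∈ ((g ⁻¹ᵁ V.1 : S'.Opens) : Set S') := by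
      show g y ∈ V.1
      rw [hy]; exact v.2
    rw [hcov] at hy'
    obtain ⟨U, hU, hyU⟩ := Set.mem_iUnion₂.mp hy'
    refine ⟨Sigma.ι (fun U : s => ((U.1.1 : S'.Opens) : Scheme.{u})) ⟨U, hU⟩ ⟨y, hyU⟩, V.1.ι.isOpenEmbedding.injective ?_⟩
    rw [← Scheme.Hom.comp_apply, hw, ← Scheme.Hom.comp_apply, ← Category.assoc, Sigma.ι_desc]
    exact hy
  haveI : IsAffine (V.1 : Scheme.{u}) := V.2
  let Z := Limits.pullback f' ρ
  let k : Z ⟶ X' := pullback.fst f' ρ
  let pr : Z ⟶ W := pullback.snd f' ρ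
  have sqZ : IsPullback k pr f' ρ := IsPullback.of_hasPullback _ _
  have sqZX : IsPullback (k ≫ p) pr f (w ≫ V.1.ι) := hw ▸ sqZ.paste_horiz h
  let XV : X.Opens := f ⁻¹ᵁ V.1
  have sqV : IsPullback XV.ι (f ∣_ V.1) f V.1.ι := (isPullback_morphismRestrict f V.1).flip
  let l : Z ⟶ (XV : Scheme.{u}) := sqV.lift (k ≫ p) (pr ≫ w) (by rw [sqZX.w, Category.assoc])
  have hl : l ≫ XV.ι = k ≫ p := sqV.lift_fst _ _ _
  have sqL : IsPullback l pr (f ∣_ V.1) w :=
    IsPullback.of_right (by rw [hl]; exact sqZX) (sqV.lift_snd _ _ _) sqV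
  have hinv : PicF.IsInvertible (L.restrict XV.ι) := by
    obtain ⟨c, ⟨e⟩⟩ := exists_cocycle hL
    obtain ⟨d⟩ := c.nonempty_restrict_iso XV.ι e
    exact (c.comap XV.ι).isInvertible_of_iso d
  haveI : QuasiCompact (f ∣_ V.1) := IsZariskiLocalAtTarget.restrict (P := @QuasiCompact) inferInstance _
  refine isAmple_of_isAmple_pullback sqL hinv ?_
  rw [isAmple_iff_of_iso ((Scheme.Modules.pullback l).mapIso
      ((Scheme.Modules.restrictFunctorIsoPullback XV.ι).app L)), isAmple_pullback_comp_iff, hl,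
    ← isAmple_pullback_comp_iff]
  haveI : QuasiCompact pr := MorphismProperty.pullback_snd f' ρ hA.1
  refine isAmple_of_isRelAmple_top (f := pr) (isRelAmple_of_cover fun z => ?_)
  obtain ⟨⟨U, y⟩, rfl⟩ := (sigmaMk fun U : s => ((U.1.1 : S'.Opens) : Scheme.{u})).surjective z
  rw [sigmaMk_mk]
  let ιU := Sigma.ι (fun U : s => ((U.1.1 : S'.Opens) : Scheme.{u})) U
  let O : W.Opens := ιU.opensRange
  have hO : IsAffineOpen O := isAffineOpen_opensRange ιU
  refine ⟨O, ⟨y, rfl⟩, hO, ?_⟩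
  have hOρ : O.ι ≫ ρ = ιU.isoOpensRange.inv ≫ U.1.1.ι := by
    rw [← Scheme.Hom.isoOpensRange_inv_comp ιU, Category.assoc, Sigma.ι_desc]
  haveI : IsOpenImmersion (O.ι ≫ ρ) := by rw [hOρ]; infer_instance
  have sqO : IsPullback ((pr ⁻¹ᵁ O).ι ≫ k) (pr ∣_ O) f' (O.ι ≫ ρ) :=
    (isPullback_morphismRestrict pr O).flip.paste_horiz sqZ
  haveI : IsOpenImmersion ((pr ⁻¹ᵁ O).ι ≫ k) := MorphismProperty.of_isPullback sqO.flip inferInstance
  haveI : CompactSpace (pr ⁻¹ᵁ O : Scheme.{u}) :=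
    isCompact_iff_compactSpace.mp (pr.isCompact_preimage hO.isCompact)
  rw [isAmple_restrict_iff, isAmple_pullback_comp_iff]
  refine isAmple_pullback_of_range_le _ (f' ⁻¹ᵁ U.1.1).ι ?_ ((isAmple_restrict_iff _ _).mp (hA.2 U.1))
  rw [Scheme.Opens.range_ι]
  rintro _ ⟨z, rfl⟩
  show f' (((pr ⁻¹ᵁ O).ι ≫ k) z) ∈ U.1.1
  rw [← Scheme.Hom.comp_apply, sqO.w, hOρ, ← Category.assoc, Scheme.Hom.comp_apply]
  exact Subtype.mem _

end GrothLib.Ample
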