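import Groth.Agent.Lib.Ample.CocPullback
import Groth.Agent.Lib.FlatBC.Basic
import Groth.Agent.Lib.InvExt.Gen
import Groth.Agent.Lib.InvExt.FiniteFibre

/-!
# Pulled-back global sections detect non-vanishing under flat base change
-/

set_option autoImplicit false
set_option linter.all false
set_option backward.isDefEq.respectTransparency false
set_option maxHeartbeats 1000000

universe u

open CategoryTheory AlgebraicGeometry Opposite TopologicalSpace
open GrothLib.InvExt (mres)

noncomputable section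

namespace GrothLib.Ample

variable {X Y : Scheme.{u}}

namespace Cocycle

variable (c : Cocycle X) (j : Y ⟶ X) {n : ℕ}

theorem pushHom_app_opens {U : X.Opens} (a : c.sect n U) :
    (c.pushHom j n).app U a = c.pullSect j (le_rfl : j ⁻¹ᵁ U ≤ j ⁻¹ᵁ U) a := by
  refine (c.homOfFamily_app _ a).trans (c.famApp_eq _ a fun i => ?_)
  refine Eq.trans ?_ (pushforward_smul j ((c.comap j).twist n) (V := U ⊓ c.D i) (a.1 i)
    ((c.comap j).sectRes (j.preimage_mono (inf_le_right : U ⊓ c.D i ≤ c.D i))
      ((c.comap j).base n (V := j ⁻¹ᵁ c.D i) i le_rfl))).symm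
  show (c.comap j).sectRes (j.preimage_mono (inf_le_left : U ⊓ c.D i ≤ U)) (c.pullSect j le_rfl a) = _
  refine (c.comap j).sect_ext_of_le (i := i) (j.preimage_mono (inf_le_right : U ⊓ c.D i ≤ c.D i)) ?_
  erw [sectRes_base, smul_apply, base_self, mul_one, sectRes_apply, pullSect_apply, res_appLE]

theorem exists_pullback_compat (n : ℕ) :
    ∃ θ : (Scheme.Modules.pullback j).obj (c.twist n) ≅ (c.comap j).twist n,
      ∀ (U : X.Opens) (P : Y.Opens) (e : P ≤ j ⁻¹ᵁ U) (a : c.sect n U),
        θ.hom.app P (BCCoh.pullRes j (c.twist n) U P e a) = c.pullSect j e a := by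
  let adj := Scheme.Modules.pullbackPushforwardAdjunction j
  let θ := (adj.homEquiv (c.twist n) ((c.comap j).twist n)).symm (c.pushHom j n)
  have hθ : adj.unit.app (c.twist n) ≫ (Scheme.Modules.pushforward j).map θ = c.pushHom j n :=
    (adj.homEquiv_unit (c.twist n) ((c.comap j).twist n) θ).symm.trans (Equiv.apply_symm_apply _ _)
  have e1 : c.pullHom j n ≫ θ = 𝟙 _ := by
    refine (c.comap j).hom_ext fun i => ?_
    show θ.app _ ((c.pullHom j n).app (j ⁻¹ᵁ c.D i) ((c.comap j).base n (V := j ⁻¹ᵁ c.D i) i le_rfl)) = _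
    rw [c.pullHom_base]
    have h := congrArg (fun f : c.twist n ⟶ _ => f.app (c.D i) (c.base n i le_rfl)) hθ
    exact h.trans (c.pushHom_base j n i)
  haveI : IsIso θ := by
    obtain ⟨φ⟩ := c.nonempty_pullback_twist j n
    have h2 : φ.inv ≫ θ = φ.inv ≫ θ := rfl
    refine ⟨c.pullHom j n, ?_, e1⟩
    refine (adj.homEquiv _ _).injective ?_
    rw [adj.homEquiv_unit, adj.homEquiv_unit, Functor.map_comp, ← Category.assoc, hθ,
      CategoryTheory.Functor.map_id]
    refine Eq.trans ?_ (Category.comp_id (adj.unit.app (c.twist n))).symm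
    refine c.hom_ext fun i => ?_
    show (c.pullHom j n).app (j ⁻¹ᵁ c.D i) ((c.pushHom j n).app (c.D i) (c.base n i le_rfl)) = _
    rw [c.pushHom_base]
    exact c.pullHom_base j n i
  refine ⟨asIso θ, fun U P e a => ?_⟩
  refine (app_mres θ e _).trans ?_
  refine Eq.trans (congrArg (mres ((c.comap j).twist n) e)
    ((congrArg (fun f : c.twist n ⟶ _ => f.app U a) hθ).trans (c.pushHom_app_opens j a))) ?_
  exact (c.comap j).sect_ext fun i => res_appLE _ _ _ _

/-- A global family whose pullback spans detects non-vanishing. -/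
theorem exists_mem_locus_comap {S S' : Scheme.{u}} [IsAffine S] [IsAffine S'] [CompactSpace X] [QuasiSeparatedSpace X]
    {f : X ⟶ S} {f' : Y ⟶ S'} {g : S' ⟶ S} [Flat g] (h : IsPullback j f' f g)
    (b : (c.comap j).sect n ⊤) {y : Y} (hy : y ∈ (c.comap j).locus b) :
    ∃ a : c.sect n ⊤, j y ∈ c.locus a := by
  by_contra hcon
  push Not at hcon
  obtain ⟨θ, hθ⟩ := c.exists_pullback_compat j n
  haveI : (c.twist n).IsQuasicoherent := InvExt.isQuasicoherent_of_isInvertible (c.isInvertible_twist n)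
  let P : Y.Opens := FlatBC.upU j f' ⊤ ⊤
  have hyP : y ∈ P := ⟨trivial, trivial⟩
  obtain ⟨i, hi⟩ := (c.comap j).exists_mem y
  have hlifts : ∀ a : c.sect n ⊤, ¬ IsUnit (Y.presheaf.germ _ y (⟨hyP, hi⟩ : y ∈ P ⊓ (c.comap j).D i)
      ((c.pullSect j (inf_le_left : P ≤ j ⁻¹ᵁ ⊤) a).1 i)) := by
    intro a hu
    erw [← Scheme.mem_basicOpen, pullSect_apply, Scheme.basicOpen_appLE] at hu
    exact hcon a ((c.mem_locus_iff a (i := i) hi).mpr hu.2)
  have hqs : IsQuasiSeparated ((f ⁻¹ᵁ (⊤ : S.Opens) : X.Opens) : Set X) := by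
    rw [Scheme.Hom.preimage_top]
    exact isQuasiSeparated_univ_iff.2 inferInstance
  have hflat : (g.appLE ⊤ ⊤ (le_top : (⊤ : S'.Opens) ≤ g ⁻¹ᵁ ⊤)).hom.Flat :=
    HasRingHomProperty.appLE (P := @Flat) g inferInstance ⟨⊤, isAffineOpen_top S⟩ ⟨⊤, isAffineOpen_top S'⟩ _
  obtain ⟨-, hs⟩ := FlatBC.bij_of_isCompact h (c.twist n) (V := ⊤) (W := ⊤) le_top (isAffineOpen_top S)
    (isAffineOpen_top S') hflat hqs (U := ⊤) isCompact_univ le_top
  let b' : Γ((Scheme.Modules.pullback j).obj (c.twist n), P) :=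
    θ.inv.app P ((c.comap j).sectRes (le_top : P ≤ ⊤) b)
  letI : Algebra Γ(S, ⊤) Γ(S', ⊤) := (g.appLE ⊤ ⊤ le_top).hom.toAlgebra
  letI : Module Γ(S, ⊤) (FlatBC.secM f' ((Scheme.Modules.pullback j).obj (c.twist n)) ⊤ P inf_le_right) :=
    Module.compHom _ (g.appLE ⊤ ⊤ le_top).hom
  haveI : IsScalarTower Γ(S, ⊤) Γ(S', ⊤)
      (FlatBC.secM f' ((Scheme.Modules.pullback j).obj (c.twist n)) ⊤ P inf_le_right) :=
    IsScalarTower.of_algebraMap_smul fun _ _ => rfl
  obtain ⟨z, hz⟩ := hs b'
  let ev : Γ((Scheme.Modules.pullback j).obj (c.twist n), P) → Y.presheaf.stalk y := fun s =>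
    Y.presheaf.germ _ y (⟨hyP, hi⟩ : y ∈ P ⊓ (c.comap j).D i)
      ((show (c.comap j).sect n P from θ.hom.app P s).1 i)
  have key : ∀ z, ¬ IsUnit (ev (show Γ((Scheme.Modules.pullback j).obj (c.twist n), P) from
      (FlatBC.pullHom h (c.twist n) (V := ⊤) (W := ⊤) le_top (U := ⊤) le_top).liftBaseChange Γ(S', ⊤) z)) := by
    intro z
    induction z using TensorProduct.induction_on with
    | zero =>
      rw [map_zero]
      have e0 : ev 0 = 0 := by
        show Y.presheaf.germ _ y _ ((show (c.comap j).sect n P from θ.hom.app P 0).1 i) = 0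
        rw [map_zero]
        exact map_zero _
      erw [e0]
      exact not_isUnit_zero
    | add u v hu hv =>
      rw [map_add]
      have e0 : ∀ s t, ev (s + t) = ev s + ev t := fun s t => by
        show Y.presheaf.germ _ y _ ((show (c.comap j).sect n P from θ.hom.app P (s + t)).1 i) = _
        rw [map_add]
        exact map_add _ _ _
      erw [e0]
      exact IsLocalRing.nonunits_add hu hv
    | tmul r a =>
      rw [LinearMap.liftBaseChange_tmul]
      have e0 : ∀ (r' : Γ(Y, P)) s, ev (r' • s) =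
          Y.presheaf.germ _ y (⟨hyP, hi⟩ : y ∈ P ⊓ (c.comap j).D i) (res inf_le_left r') * ev s := fun r' s => by
        show Y.presheaf.germ _ y _ ((show (c.comap j).sect n P from θ.hom.app P (r' • s)).1 i) = _
        rw [app_smul]
        exact map_mul _ _ _
      erw [FlatBC.secM_smul, e0]
      intro hu
      refine hlifts (show c.sect n ⊤ from a) ?_
      have := isUnit_of_mul_isUnit_right hu
      simp only [ev] at this
      erw [hθ ⊤ P inf_le_left] at this
      exact this
  refine key z ?_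
  rw [hz]
  show IsUnit (Y.presheaf.germ _ y _ ((show (c.comap j).sect n P from θ.hom.app P b').1 i))
  have e : θ.hom.app P b' = (c.comap j).sectRes (le_top : P ≤ ⊤) b := by
    simp only [b', ← CategoryTheory.comp_apply, ← Scheme.Modules.Hom.comp_app, Iso.inv_hom_id]
    rfl
  rw [e, ← Scheme.mem_basicOpen, sectRes_apply, Scheme.basicOpen_res]
  exact ⟨⟨hyP, hi⟩, ((c.comap j).mem_locus_iff b hi).mp hy⟩

end Cocycle

end GrothLib.Ample
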